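import Groth.Agent.H9Et.GaZariski
import Groth.Agent.H11Tilde.QCohCrit
import Groth.Agent.H12AlgSp.BCMod.ProjCompanion
import Groth.Agent.H12AlgSp.SubExt.Basic
import Mathlib.Algebra.Module.Shrink

/-!
The Zariski companion of a module on the small etale site with small sections over affine objects.
-/

set_option backward.isDefEq.respectTransparency false
set_option linter.unusedVariables false
set_option linter.style.haveILetI false

universe u

open CategoryTheory CategoryTheory.Limits AlgebraicGeometry Opposite TopologicalSpace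
open AlgSp Groth.Agent.H12AlgSp Groth.Agent.H12AlgSp.BCMod

namespace Groth.Agent.H13LocProj

section Scheme

variable (T : Scheme.{u}) (M : ModEtSch T)

/-- Sections over the open subschemes. -/
noncomputable def resP : (T.Opens)ᵒᵖ ⥤ AddCommGrpCat.{u + 1} := (EtZar.zarToEt T).op ⋙ M.val.presheaf

theorem isSheaf_resP : Presheaf.IsSheaf (Opens.grothendieckTopology T) (resP T M) :=
  haveI := H9Et.zarCont T
  Functor.op_comp_isSheaf (EtZar.zarToEt T) (Opens.grothendieckTopology T) T.smallEtaleTopology
    ⟨M.val.presheaf, M.isSheaf⟩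

theorem isSheaf_resP_types :
    Presieve.IsSheaf (Opens.grothendieckTopology T) (resP T M ⋙ CategoryTheory.forget AddCommGrpCat.{u + 1}) :=
  haveI := H9Et.zarCont T
  Functor.op_comp_isSheaf_of_types (EtZar.zarToEt T) (Opens.grothendieckTopology T) T.smallEtaleTopology
    ⟨M.val.presheaf ⋙ CategoryTheory.forget AddCommGrpCat.{u + 1},
      (Presheaf.isSheaf_iff_isSheaf_forget _ _ _).1 M.isSheaf⟩

/-- The functions on an open, as functions on the open subscheme. -/
noncomputable def funW (W : T.Opens) : Γ(T, W) →+* (OEtSchRing T).obj.obj (op (etaleOfOpen T W)) :=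
  (ULift.ringEquiv.symm : Γ(W.toScheme, ⊤) ≃+* ULift.{u + 1} Γ(W.toScheme, ⊤)).toRingHom.comp W.topIso.inv.hom

theorem funW_res {W W' : T.Opens} (h : W' ≤ W) (r : Γ(T, W)) :
    funW T W' (T.presheaf.map (homOfLE h).op r) = ((OEtSchRing T).obj.map (etaleOfLE h).op).hom (funW T W r) := by
  refine ULift.ext _ _ ?_
  change W'.topIso.inv (T.presheaf.map (homOfLE h).op r) = (T.homOfLE h).appTop (W.topIso.inv r)
  simp only [Scheme.Opens.topIso_inv, Scheme.homOfLE_appTop, ← CommRingCat.comp_apply, ← Functor.map_comp]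
  rfl

theorem small_sections (hsmall : ∀ W : T.Opens, IsAffineOpen W → Small.{u} (M.val.obj (op (etaleOfOpen T W))))
    (W : T.Opens) : Small.{u} (M.val.obj (op (etaleOfOpen T W))) := by
  let I := { A : T.Opens // IsAffineOpen A ∧ A ≤ W }
  haveI : ∀ A : I, Small.{u} (M.val.obj (op (etaleOfOpen T A.1))) := fun A => hsmall A.1 A.2.1
  refine small_of_injective (β := ∀ A : I, M.val.obj (op (etaleOfOpen T A.1)))
    (f := fun (m : M.val.obj (op (etaleOfOpen T W))) =>
      ((fun A : I => ((resP T M).map (homOfLE A.2.2).op).hom m) : ∀ A : I, M.val.obj (op (etaleOfOpen T A.1))))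
    (?_ : Function.Injective _)
  intro m m' h
  let R : Sieve W :=
    { arrows := fun V i => ((resP T M).map i.op).hom m = ((resP T M).map i.op).hom m'
      downward_closed := fun {V V' i} hi j => by
        rw [op_comp, Functor.map_comp]
        exact congrArg ((resP T M).map j.op).hom hi }
  have hR : R ∈ Opens.grothendieckTopology T W := fun x hx => by
    obtain ⟨A, hA, hxA, hAW⟩ := Opens.isBasis_iff_nbhd.mp T.isBasis_affineOpens hx
    exact ⟨A, homOfLE hAW, congr_fun h ⟨A, hA, hAW⟩, hxA⟩
  exact (isSheaf_resP_types T M R hR).isSeparatedFor.ext fun V i hi => hi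

/-- Restriction of sections. -/
noncomputable def resL {W W' : (T.Opens)ᵒᵖ} (i : W ⟶ W') :
    M.val.obj (op (etaleOfOpen T W.unop)) →+ M.val.obj (op (etaleOfOpen T W'.unop)) :=
  ((resP T M).map i).hom

variable [hSm : ∀ W : T.Opens, Small.{u} (M.val.obj (op (etaleOfOpen T W)))]
include hSm

/-- The shrunk sections. -/
noncomputable def shrP : (T.Opens)ᵒᵖ ⥤ AddCommGrpCat.{u} where
  obj W := AddCommGrpCat.of (Shrink.{u} (M.val.obj (op (etaleOfOpen T W.unop))))
  map {W W'} i := AddCommGrpCat.ofHom
    ((Shrink.addEquiv.symm.toAddMonoidHom.comp (resL T M i)).comp Shrink.addEquiv.toAddMonoidHom)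
  map_id W := by
    refine AddCommGrpCat.hom_ext (AddMonoidHom.ext fun x => ?_)
    change Shrink.addEquiv.symm (resL T M (𝟙 W) (Shrink.addEquiv (α := M.val.obj (op (etaleOfOpen T W.unop))) x)) = x
    rw [resL, CategoryTheory.Functor.map_id]
    exact Shrink.addEquiv.symm_apply_apply x
  map_comp {A B D} i j := by
    refine AddCommGrpCat.hom_ext (AddMonoidHom.ext fun x => ?_)
    change Shrink.addEquiv.symm (resL T M (i ≫ j) (Shrink.addEquiv (α := M.val.obj (op (etaleOfOpen T A.unop))) x)) =
      Shrink.addEquiv.symm (resL T M j (Shrink.addEquiv (Shrink.addEquiv.symm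
        (resL T M i (Shrink.addEquiv (α := M.val.obj (op (etaleOfOpen T A.unop))) x)))))
    rw [AddEquiv.apply_symm_apply, resL, resL, resL, Functor.map_comp]
    rfl

theorem isSheaf_shrP : Presheaf.IsSheaf (Opens.grothendieckTopology T) (shrP T M) := by
  rw [Presheaf.isSheaf_iff_isSheaf_forget _ _ (CategoryTheory.forget AddCommGrpCat.{u}),
    isSheaf_iff_isSheaf_of_type, ← Presieve.isSheaf_comp_uliftFunctor_iff.{u, u + 1}]
  refine Presieve.isSheaf_iso _ (NatIso.ofComponents (fun W => Equiv.toIso
    ((equivShrink.{u} (M.val.obj (op (etaleOfOpen T W.unop)))).trans Equiv.ulift.{u + 1, u}.symm)) fun {W W'} i => ?_)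
    (isSheaf_resP_types T M)
  ext x
  refine ULift.ext _ _ ?_
  change equivShrink.{u} (M.val.obj (op (etaleOfOpen T W'.unop))) (resL T M i x) =
    equivShrink _ (resL T M i ((equivShrink _).symm (equivShrink (M.val.obj (op (etaleOfOpen T W.unop))) x)))
  rw [Equiv.symm_apply_apply]

/-- Functions act on the shrunk sections. -/
@[reducible] noncomputable def shrModule (W : (T.Opens)ᵒᵖ) :
    Module (T.ringCatSheaf.obj.obj W) ((shrP T M).obj W) :=
  letI : Module Γ(T, W.unop) (M.val.obj (op (etaleOfOpen T W.unop))) := Module.compHom _ (funW T W.unop)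
  inferInstanceAs (Module Γ(T, W.unop) (Shrink.{u} (M.val.obj (op (etaleOfOpen T W.unop)))))

theorem shr_smul (W : (T.Opens)ᵒᵖ) (r : Γ(T, W.unop)) (x : (shrP T M).obj W) :
    letI := shrModule T M W
    Shrink.addEquiv (α := M.val.obj (op (etaleOfOpen T W.unop))) ((show T.ringCatSheaf.obj.obj W from r) • x) =
      funW T W.unop r • Shrink.addEquiv (α := M.val.obj (op (etaleOfOpen T W.unop))) x :=
  (equivShrink _).symm_apply_apply _

/-- The companion module. -/
noncomputable def zarMod : T.Modules :=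
  letI := shrModule T M
  { val := PresheafOfModules.ofPresheaf (R := T.ringCatSheaf.obj) (shrP T M) fun W W' i r x => by
      change Shrink.addEquiv.symm (resL T M i (Shrink.addEquiv
          (α := M.val.obj (op (etaleOfOpen T W.unop))) (r • x))) =
        (T.ringCatSheaf.obj.map i).hom r •
          (show (shrP T M).obj W' from Shrink.addEquiv.symm (resL T M i (Shrink.addEquiv (α := M.val.obj (op (etaleOfOpen T W.unop))) x)))
      apply (Shrink.addEquiv (α := M.val.obj (op (etaleOfOpen T W'.unop)))).injective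
      refine (AddEquiv.apply_symm_apply _ _).trans ?_
      refine Eq.trans ?_ (shr_smul T M W' (T.presheaf.map i r) _).symm
      rw [AddEquiv.apply_symm_apply]
      refine (congrArg (resL T M i) (shr_smul T M W r x)).trans ?_
      refine ((M.val.map ((EtZar.zarToEt T).map i.unop).op).hom.map_smul _ _).trans ?_
      exact congrArg (fun z : (OEtSchRing T).obj.obj (op (etaleOfOpen T W'.unop)) => z • resL T M i (Shrink.addEquiv x)) (funW_res T i.unop.le r).symm
    isSheaf := isSheaf_shrP T M }

/-- The identification. -/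
noncomputable def zarComp : ZarCompanion T (zarMod T M) M where
  iso W := (Shrink.addEquiv (α := M.val.obj (op (etaleOfOpen T W)))).symm.trans AddEquiv.ulift.symm
  map_smul W a m := by
    refine ULift.ext _ _ ?_
    apply (Shrink.addEquiv (α := M.val.obj (op (etaleOfOpen T W)))).injective
    refine Eq.trans (AddEquiv.apply_symm_apply _ _) ?_
    refine Eq.trans ?_ (shr_smul T M (op W) a _).symm
    exact (congrArg (funW T W a • ·) (AddEquiv.apply_symm_apply _ m)).symm
  map_res {W W'} h m := by
    refine ULift.ext _ _ ?_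
    exact congrArg (fun z => Shrink.addEquiv.symm (resL T M (homOfLE h).op z))
      (AddEquiv.apply_symm_apply _ m).symm

omit hSm in
/-- Companions transfer along isomorphisms. -/
theorem comp_of_iso {M M' : ModEtSch T} (α : M ≅ M') (H : T.Modules) (c : ZarCompanion T H M') :
    Nonempty (ZarCompanion T H M) :=
  ⟨{ iso := fun W => ({ toFun := fun m => (α.hom.val.app (op (etaleOfOpen T W))).hom m
                        invFun := fun m => (α.inv.val.app (op (etaleOfOpen T W))).hom m
                        left_inv := fun m => congrArg (fun t => (SheafOfModules.Hom.val t |>.app (op (etaleOfOpen T W))).hom m) α.hom_inv_id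
                        right_inv := fun m => congrArg (fun t => (SheafOfModules.Hom.val t |>.app (op (etaleOfOpen T W))).hom m) α.inv_hom_id
                        map_add' := map_add _ } : _ ≃+ _).trans (c.iso W)
     map_smul := fun W a m => (congrArg (c.iso W) ((α.hom.val.app _).hom.map_smul _ m)).trans (c.map_smul W a _)
     map_res := fun {W W'} h m => (congrArg (c.iso W') (PresheafOfModules.naturality_apply α.hom.val (etaleOfLE h).op m)).trans (c.map_res h _) }⟩

theorem isQCoh_zarMod
    (hinj : ∀ (W : T.Opens), IsAffineOpen W → ∀ (r : Γ(T, W)) (x : M.val.obj (op (etaleOfOpen T W))),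
      (M.val.map (etaleOfLE (T.basicOpen_le r)).op).hom x = 0 → ∃ n : ℕ, funW T W (r ^ n) • x = 0)
    (hsurj : ∀ (W : T.Opens), IsAffineOpen W → ∀ (r : Γ(T, W)) (y : M.val.obj (op (etaleOfOpen T (T.basicOpen r)))),
      ∃ (n : ℕ) (x : M.val.obj (op (etaleOfOpen T W))), (M.val.map (etaleOfLE (T.basicOpen_le r)).op).hom x =
        ((OEtSchRing T).obj.map (etaleOfLE (T.basicOpen_le r)).op).hom (funW T W (r ^ n)) • y) :
    Coh.IsQCoh (zarMod T M) := by
  refine H11Tilde.isQuasicoherent_of_basicOpen_localization (zarMod T M) (fun W : T.affineOpens => W.1)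
    (iSup_affineOpens_eq_top T) (fun W => W.2) (fun W r s hs => ?_) (fun W r y => ?_)
  · have hs' : (M.val.map (etaleOfLE (T.basicOpen_le r)).op).hom
        (Shrink.addEquiv (α := M.val.obj (op (etaleOfOpen T W.1))) s) = 0 :=
      (Shrink.addEquiv (α := M.val.obj (op (etaleOfOpen T (T.basicOpen r))))).symm.injective
        (hs.trans (map_zero _).symm)
    obtain ⟨n, hn⟩ := hinj W.1 W.2 r _ hs'
    refine ⟨n, (Shrink.addEquiv (α := M.val.obj (op (etaleOfOpen T W.1)))).injective ?_⟩
    rw [map_zero]
    exact (shr_smul T M (op W.1) (r ^ n) s).trans hn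
  · obtain ⟨n, x, hx⟩ := hsurj W.1 W.2 r (Shrink.addEquiv (α := M.val.obj (op (etaleOfOpen T (T.basicOpen r)))) y)
    refine ⟨n, (Shrink.addEquiv (α := M.val.obj (op (etaleOfOpen T W.1)))).symm x, ?_⟩
    apply (Shrink.addEquiv (α := M.val.obj (op (etaleOfOpen T (T.basicOpen r))))).injective
    refine (AddEquiv.apply_symm_apply _ _).trans ?_
    refine Eq.trans ?_ (shr_smul T M (op (T.basicOpen r)) _ y).symm
    rw [funW_res]
    exact (congrArg (resL T M (homOfLE (T.basicOpen_le r)).op) (AddEquiv.apply_symm_apply _ x)).trans hx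

end Scheme

section Space

variable {S : Scheme.{u}} {V : Over S} (Y : Space S) (q : (yon S).obj V ⟶ Y.obj) (hq : IsEtaleMor q)
  (hr : Representable q) [(SheafOfModules.pushforward.{u + 1} (bcRingHom hr)).IsRightAdjoint]
  (G : ModEt Y.obj)

/-- The map of open subschemes of a chart. -/
noncomputable def chMap {A B : V.left.Opens} (h : A ≤ B) : chartOpen Y q hq A ⟶ chartOpen Y q hq B :=
  (EtOver.postcomp q hq).map ((EtOver.ofScheme V).map (etaleOfLE h))

theorem exists_pow_chart (hG : IsBCEt G) (W : V.left.Opens) (hW : IsAffineOpen W) (r : Γ(V.left, W)) :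
    (∀ x : (pm G).obj (op (chartOpen Y q hq W)),
      ((pm G).map (chMap Y q hq (V.left.basicOpen_le r)).op).hom x = 0 →
        ∃ n : ℕ, (ULift.up (W.topIso.inv (r ^ n)) : (OEt Y.obj).obj.obj (op (chartOpen Y q hq W))) • x = 0) ∧
    (∀ y : (pm G).obj (op (chartOpen Y q hq (V.left.basicOpen r))), ∃ (n : ℕ) (x : (pm G).obj (op (chartOpen Y q hq W))),
      ((pm G).map (chMap Y q hq (V.left.basicOpen_le r)).op).hom x =
        ((OEt Y.obj).obj.map (chMap Y q hq (V.left.basicOpen_le r)).op).hom
          (ULift.up (W.topIso.inv (r ^ n))) • y) := by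
  let E := chartOpen Y q hq W
  have hE : IsAffine E.obj.left.left := hW
  let D := V.left.basicOpen r
  let g := chMap Y q hq (V.left.basicOpen_le r)
  let f : (OEt Y.obj).obj.obj (op E) := ULift.up (W.topIso.inv r)
  have hpow : ∀ n : ℕ, f ^ n = (ULift.up (W.topIso.inv (r ^ n)) : (OEt Y.obj).obj.obj (op E)) := fun n => by
    refine ULift.ext _ _ ?_
    change (W.topIso.inv r) ^ n = _
    rw [map_pow]
  let Db : E.obj.left.left.Opens := E.obj.left.left.basicOpen f.down
  have himg : W.ι ''ᵁ Db = D := Scheme.Opens.ι_image_basicOpen_topIso_inv W r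
  have hmem : ∀ z : E.obj.left.left, z ∈ Db ↔ W.ι z ∈ D := fun z => by
    rw [← himg]
    exact (Scheme.Hom.apply_mem_image_iff W.ι).symm
  obtain ⟨l, hl⟩ := SubExt.exists_lift_etOpen g Db (fun z => by
    rw [hmem]
    change ((V.left.homOfLE (V.left.basicOpen_le r)) ≫ W.ι) z ∈ D
    rw [Scheme.homOfLE_ι]
    exact z.2)
  have hl' : ∃ l' : etOpen E Db ⟶ chartOpen Y q hq D, l' ≫ g = etOpenι E Db := by
    have hrng : Set.range (Db.ι ≫ W.ι) ⊆ Set.range D.ι := by
      rw [Scheme.Opens.range_ι]
      rintro _ ⟨z, rfl⟩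
      exact (hmem z.1).1 z.2
    let a : (etOpen E Db).obj.left ⟶ (chartOpen Y q hq D).obj.left :=
      Over.homMk (IsOpenImmersion.lift D.ι (Db.ι ≫ W.ι) hrng) (by
        change IsOpenImmersion.lift D.ι (Db.ι ≫ W.ι) hrng ≫ D.ι ≫ V.hom = Db.ι ≫ W.ι ≫ V.hom
        rw [IsOpenImmersion.lift_fac_assoc, Category.assoc])
    have hw : a ≫ g.hom.left = (etOpenι E Db).hom.left := by
      refine Over.OverMorphism.ext ((cancel_mono W.ι).1 ?_)
      change (IsOpenImmersion.lift D.ι (Db.ι ≫ W.ι) hrng ≫ V.left.homOfLE (V.left.basicOpen_le r)) ≫ W.ι = Db.ι ≫ W.ι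
      rw [Category.assoc, Scheme.homOfLE_ι, IsOpenImmersion.lift_fac]
    refine ⟨EtOver.homMk a ?_, EtOver.hom_ext _ _ hw⟩
    rw [← EtOver.w (etOpenι E Db), ← hw, Functor.map_comp, Category.assoc, EtOver.w g]
  obtain ⟨l', hl'⟩ := hl'
  have hll : l ≫ l' = 𝟙 _ := by
    apply EtOver.hom_ext
    haveI : Mono g.hom.left.left := (inferInstance : Mono (V.left.homOfLE (V.left.basicOpen_le r)))
    refine Over.OverMorphism.ext ((cancel_mono g.hom.left.left).1 ?_)
    have h := congrArg (fun m => m.hom.left.left) (show (l ≫ l') ≫ g = 𝟙 _ ≫ g by rw [Category.assoc, hl', hl, Category.id_comp])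
    exact h
  refine ⟨fun x hx => ?_, fun y => ?_⟩
  · obtain ⟨n, hn⟩ := SubExt.exists_pow_smul_mem (f := f) hG hE ⊥ x (by
      rw [← hl', ← map_comp_sec, hx, map_zero]; exact zero_mem _)
    exact ⟨n, hpow n ▸ (Submodule.mem_bot _).1 hn⟩
  · obtain ⟨n, x, hx⟩ := SubExt.exists_pow_smul_eq (f := f) hG hE (((pm G).map l'.op).hom y)
    refine ⟨n, x, ?_⟩
    have hx' := congrArg ((pm G).map l.op).hom hx
    rw [map_comp_sec, hl, map_smul_sec, map_comp_sec, hll, ← map_comp_ring, hl, hpow] at hx'
    refine hx'.trans (congrArg (_ • ·) ?_)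
    rw [op_id, (pm G).map_id]
    rfl

include hq in
/-- Modules with small sections over the affine objects have companions on charts. -/
theorem exists_companion (hG : IsBCEt G)
    (hsmall : ∀ E : EtOver Y.obj, IsAffine E.obj.left.left → Small.{u} (sectModEt G E)) :
    ∃ (H : V.left.Modules), Coh.IsQCoh H ∧
      Nonempty (ZarCompanion V.left H ((resSchModEt V).obj ((pullModEt hr).obj G))) := by
  let pS : (⟨(yon S).obj V, IsAlgSpace.yon_obj V⟩ : Space S) ⟶ Y := ObjectProperty.homMk q
  haveI := (S10234.result pS hq).1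
  let M₁ := (resSchModEt V).obj ((SheafOfModules.pushforward.{u + 1} (EtRes.resHom pS hq)).obj G)
  let α : (resSchModEt V).obj ((pullModEt hr).obj G) ≅ M₁ :=
    (resSchModEt V).mapIso ((EtRes.pullIso pS hq hr).app G)
  haveI : ∀ W : V.left.Opens, Small.{u} (M₁.val.obj (op (etaleOfOpen V.left W))) :=
    small_sections V.left M₁ fun W hW => hsmall (chartOpen Y q hq W) hW
  refine ⟨zarMod V.left M₁, ?_, comp_of_iso V.left α _ (zarComp V.left M₁)⟩
  refine isQCoh_zarMod V.left M₁ ?_ ?_
  · intro W hW r x hx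
    exact (exists_pow_chart Y q hq G hG W hW r).1 x hx
  · intro W hW r y
    exact (exists_pow_chart Y q hq G hG W hW r).2 y

end Space

end Groth.Agent.H13LocProj
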