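import Groth.Agent.H13LocProj.Site
import Groth.Agent.H13LocProj.Companion
import Groth.Agent.H13EtMod.FiniteSec
import Groth.Agent.H12AlgSp.NormSp.Finite

/-!
Local projectivity passes to pullbacks along representable morphisms.
-/

set_option backward.isDefEq.respectTransparency false
set_option linter.unusedVariables false
set_option linter.unusedSectionVars false
set_option linter.style.haveILetI false

universe u

open CategoryTheory CategoryTheory.Limits AlgebraicGeometry Opposite TopologicalSpace
open AlgSp Groth.Agent.H12AlgSp Groth.Agent.H12AlgSp.BCMod Groth.Agent.H13EtMod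

namespace Groth.Agent.H13LocProj

variable {S : Scheme.{u}}

/-- Local projectivity through companions gives projective sections over affine objects. -/
theorem secProj_of_hproj (Y : Space S) (G : ModEt Y.obj) (hG : G.IsQuasicoherent)
    (hsmall : ∀ E : EtOver Y.obj, IsAffine E.obj.left.left → Small.{u} (sectModEt G E))
    (hproj : ∀ {V : Over S} (q : (yon S).obj V ⟶ Y.obj) (hrepq : Representable q)
      [(SheafOfModules.pushforward.{u + 1} (bcRingHom hrepq)).IsRightAdjoint]
      (H : V.left.Modules) [Coh.IsQCoh H]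
      (c : ZarCompanion V.left H ((resSchModEt V).obj ((pullModEt hrepq).obj G)))
      (W : V.left.Opens), RepWith @Etale q → IsAffineOpen W →
        Module.Projective (V.left.ringCatSheaf.obj.obj (Opposite.op W)) (H.val.obj (Opposite.op W)))
    (E : EtOver Y.obj) (hE : IsAffine E.obj.left.left) : SecProj G E := by
  let V := E.obj.left
  let q : (yon S).obj V ⟶ Y.obj := E.obj.hom
  have hq : RepWith @Etale q := E.property
  have hr : Representable q := hq.1
  have he : IsEtaleMor q := NormSp.isEtaleMor_of_repWith hq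
  haveI : (SheafOfModules.pushforward.{u + 1} (bcRingHom hr)).IsRightAdjoint :=
    H13AlgSp.PullFP.isRightAdjoint_pushModEt hr
  have hBC : IsBCEt G := (isQuasicoherent_iff_isBCEt G).1 hG
  obtain ⟨H, hH, ⟨c⟩⟩ := exists_companion Y q he hr G hBC hsmall
  haveI : IsAffine V.left := hE
  have h := (secProj_chartOpen_iff Y q he hr G H c ⊤).2 (hproj q hr H c ⊤ hq (isAffineOpen_top _))
  let w : E.obj.left ⟶ (chartOpen Y q he ⊤).obj.left :=
    Over.homMk (Scheme.topIso V.left).inv (by
      change (Scheme.topIso V.left).inv ≫ (⊤ : V.left.Opens).ι ≫ V.hom = V.hom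
      rw [← Category.assoc, ← Scheme.topIso_hom, Iso.inv_hom_id, Category.id_comp])
  let g : E ⟶ chartOpen Y q he ⊤ := EtOver.homMk w (by
    change (yon S).map w ≫ ((yon S).map _ ≫ 𝟙 _) ≫ q = E.obj.hom
    rw [Category.comp_id, ← Functor.map_comp_assoc]
    refine Eq.trans ?_ (Category.id_comp E.obj.hom)
    rw [← CategoryTheory.Functor.map_id]
    congr 2
    apply Over.OverMorphism.ext
    change (Scheme.topIso V.left).inv ≫ (⊤ : V.left.Opens).ι = 𝟙 _
    rw [← Scheme.topIso_hom, Iso.inv_hom_id])
  exact secProj_tensor hBC g hE (isAffineOpen_top V.left : IsAffine _) h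

section Pull

variable {X Y : Sp S} {f : X ⟶ Y} (hr : Representable f)

/-- Projectivity of sections over affine objects passes to the pullback. -/
theorem secProj_pullModEt (hY : IsAlgSpace Y) [(SheafOfModules.pushforward.{u + 1} (bcRingHom hr)).IsRightAdjoint]
    (G : ModEt Y) (hG : IsBCEt G) (hproj : ∀ E : EtOver Y, IsAffine E.obj.left.left → SecProj G E)
    (hP : IsBCEt ((pullModEt hr).obj G)) (E' : EtOver X) (hE' : IsAffine E'.obj.left.left) :
    SecProj ((pullModEt hr).obj G) E' := by
  haveI := preservesBinaryProducts_bc hr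
  haveI : ∀ E : EtOver Y, (Over.post (X := E) (EtOver.bc hr)).IsContinuous ((etTop Y).over E)
      ((etTop X).over ((EtOver.bc hr).obj E)) := isContinuous_post_bc hr
  have hcov := coversTop_bc hr hY (coversTop_aff (etAff Y))
  obtain ⟨κ, _, Z, z, hZ, hz, -, hp⟩ := (etAff X).exists_refine _ hE' (hcov E')
  refine secProj_of_cover hP hE' Z z hZ hp fun i => ?_
  obtain ⟨⟨E, hE⟩, ⟨b⟩⟩ := hz i
  let T : Over E := Over.mk (𝟙 E)
  haveI : Module.Projective (((OEt Y).over E).obj.obj (op T)) ((toPM (Rsh := (OEt Y).over E) (G.over E)).obj (op T)) :=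
    hproj E hE
  obtain ⟨I, a, a', haa⟩ := exists_retract (Rsh := (OEt Y).over E) (A := (etAff Y).over E) Over.mkIdTerminal hE
    (M := G.over E) (isBCMod_over hG E)
  have hL := isUnivPush_unit (bcRingHom hr) G
  let η₀ := overEquiv' (bcRingHom hr) E hL _ (𝟙 _)
  have h₀ : IsUniv (pushPost (bcRingHom hr) E) η₀ := fun N => by
    have h : (fun k : ((pullModEt hr).obj G).over ((EtOver.bc hr).obj E) ⟶ N =>
        η₀ ≫ (pushPost (bcRingHom hr) E).map k) = overEquiv' (bcRingHom hr) E hL N := by
      funext k
      rw [← overEquiv'_comp, Category.id_comp]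
    rw [h]
    exact Equiv.bijective _
  exact projective_of_isUniv (Rsh := (OEt Y).over E) (Rsh' := (OEt X).over ((EtOver.bc hr).obj E))
    (A' := (etAff X).over ((EtOver.bc hr).obj E)) (F := Over.post (EtOver.bc hr)) (postHom (bcRingHom hr) E)
    η₀ h₀ a a' haa (Y := Over.mk b) (hZ i)

end Pull

end Groth.Agent.H13LocProj
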