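import Groth.Agent.H13EtMod.PullSections
import Mathlib.Algebra.Category.ModuleCat.Projective
import Mathlib.Algebra.Category.ModuleCat.Presheaf.Colimits

/-!
Projective sections on sites with affine objects: free modules and retracts of free modules.
-/

set_option backward.isDefEq.respectTransparency false
set_option linter.unusedVariables false
set_option linter.unusedSectionVars false

universe w v₁ v₂ u₁ u₂

open CategoryTheory CategoryTheory.Limits Opposite
open Groth.Agent.H12AlgSp.BCMod Groth.Agent.H13EtMod

namespace Groth.Agent.H13LocProj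

/-- A coproduct of projective modules is projective. -/
theorem projective_of_isColimit {R : Type w} [CommRing R] {I : Type w} {F : Discrete I ⥤ ModuleCat.{w} R}
    (c : Cocone F) (hc : IsColimit c) (h : ∀ i, Module.Projective R (F.obj i)) : Module.Projective R c.pt := by
  rw [IsProjective.iff_projective]
  refine ⟨fun {Y Z} f e _ => ?_⟩
  have : ∀ i, Projective (F.obj i) := fun i => by
    haveI := h i
    exact (IsProjective.iff_projective (R := R) (F.obj i)).1 inferInstance
  refine ⟨hc.desc (Cocone.mk Y (Discrete.natTrans fun i => Projective.factorThru (c.ι.app i ≫ f) e)), ?_⟩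
  refine hc.hom_ext fun i => ?_
  rw [hc.fac_assoc]
  exact Projective.factorThru_comp _ _

variable {C : Type u₁} [Category.{v₁} C] {J : GrothendieckTopology C}
  {Rsh : Sheaf J CommRingCat.{w}} [J.HasSheafCompose (forget₂ CommRingCat.{w} RingCat.{w})]
  [HasSheafify J AddCommGrpCat.{w}] [J.WEqualsLocallyBijective AddCommGrpCat.{w}]
  {A : AffSite J Rsh.obj}

/-- The sections of a free module over an affine object are projective. -/
theorem projective_free (I : Type w) {E : C} (hE : A.aff E) :
    Module.Projective (Rsh.obj.obj (op E)) ((toPM (SheafOfModules.free (R := ringS Rsh) I)).obj (op E)) := by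
  let c := SheafOfModules.freeCofan (R := ringS Rsh) I
  let hc := SheafOfModules.isColimitFreeCofan (R := ringS Rsh) I
  let D := Discrete.functor fun _ : I => SheafOfModules.unit (ringS Rsh)
  let cp := colimit.cocone (D ⋙ fgt Rsh)
  have hP : AllBC A cp.pt := fun Z E' g hZ hE' =>
    isBC_of_isColimit g _ (colimit.isColimit _) fun j =>
      (allBC_iso (resId _).symm (isBCMod_unit (Rsh := Rsh) (A := A))) g hZ hE'
  have hb := comparison_app_bijective (A := A) c cp (colimit.isColimit _) hc hP hE
  let ev := PresheafOfModules.evaluation.{w} (Rsh.obj ⋙ forget₂ CommRingCat RingCat) (op E)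
  have hp : Module.Projective (Rsh.obj.obj (op E)) (cp.pt.obj (op E)) :=
    projective_of_isColimit (R := Rsh.obj.obj (op E)) _
      (isColimitOfPreserves ev (colimit.isColimit (D ⋙ fgt Rsh))) fun _ =>
      (inferInstance : Module.Projective (Rsh.obj.obj (op E)) (Rsh.obj.obj (op E)))
  let f : cp.pt.obj (op E) →ₗ[Rsh.obj.obj (op E)]
      (toPM (SheafOfModules.free (R := ringS Rsh) I)).obj (op E) :=
    ((comparison c cp (colimit.isColimit _)).app (op E)).hom
  exact Module.Projective.of_equiv (LinearEquiv.ofBijective f hb)

/-- Evaluation at an object of a retraction. -/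
theorem projective_of_retract {M N : SheafOfModules.{w} (ringS Rsh)} (a : M ⟶ N) (b : N ⟶ M) (h : a ≫ b = 𝟙 M)
    (E : C) [Module.Projective (Rsh.obj.obj (op E)) ((toPM N).obj (op E))] :
    Module.Projective (Rsh.obj.obj (op E)) ((toPM M).obj (op E)) :=
  Module.Projective.of_split (appL a E) (appL b E)
    (LinearMap.ext fun x => congrArg (fun m => (SheafOfModules.Hom.val m |>.app (op E)).hom x) h)

section Terminal

variable {T : C} (hT : IsTerminal T) (hA : A.aff T)

include hT hA in
/-- A quasi-coherent module with projective global sections is a retract of a free module. -/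
theorem exists_retract {M : SheafOfModules.{w} (ringS Rsh)} (hM : IsBCMod A M)
    [Module.Projective (Rsh.obj.obj (op T)) ((toPM M).obj (op T))] :
    ∃ (I : Type w) (a : M ⟶ SheafOfModules.free I) (b : SheafOfModules.free I ⟶ M), a ≫ b = 𝟙 M := by
  classical
  obtain ⟨s, hs⟩ := Module.projective_def.1
    ‹Module.Projective (Rsh.obj.obj (op T)) ((toPM M).obj (op T))›
  let I : Type w := (toPM M).obj (op T)
  let F := SheafOfModules.free (R := ringS Rsh) I
  obtain ⟨a, ha⟩ := Tilde.exists_hom hT hA hM F
    ((Finsupp.linearCombination _ fun i : I => basisSec (Rsh := Rsh) i T).comp s)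
  let b : F ⟶ M := (M.freeHomEquiv (I := I)).symm (secT hT)
  refine ⟨I, a, b, Tilde.hom_ext_global hT hA hM fun z => ?_⟩
  change appL b T (appL a T z) = z
  rw [show appL a T z = _ from ha z, LinearMap.comp_apply, Finsupp.apply_linearCombination]
  refine Eq.trans ?_ (hs z)
  congr 1
  congr 1
  funext i
  have h1 : SheafOfModules.ιFree i ≫ b = M.unitHomEquiv.symm (secT hT i) := by
    apply M.unitHomEquiv.injective
    rw [Equiv.apply_symm_apply]
    exact congr_fun ((M.freeHomEquiv (I := I)).apply_symm_apply (secT hT)) i
  refine (congrArg (fun m => appL m T (1 : Rsh.obj.obj (op T))) h1).trans ?_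
  refine (congrArg (fun s : M.sections => s.1 (op T)) (M.unitHomEquiv.apply_symm_apply (secT hT i))).trans ?_
  change (M.val.map (hT.from T).op).hom i = i
  rw [hT.hom_ext (hT.from T) (𝟙 T), op_id, M.val.map_id]
  rfl

end Terminal

section Pull

variable {D : Type u₂} [Category.{v₂} D] {K : GrothendieckTopology D}
  {Rsh' : Sheaf K CommRingCat.{w}} [K.HasSheafCompose (forget₂ CommRingCat.{w} RingCat.{w})]
  [HasSheafify K AddCommGrpCat.{w}] [K.WEqualsLocallyBijective AddCommGrpCat.{w}]
  {A' : AffSite K Rsh'.obj}
  {F : C ⥤ D} [Functor.IsContinuous F J K] [F.Final]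
  (ψ : ringS Rsh ⟶ (F.sheafPushforwardContinuous RingCat.{w} J K).obj (ringS Rsh'))

/-- The pullback of a retract of a free module has projective sections over affine objects. -/
theorem projective_of_isUniv {M : SheafOfModules.{w} (ringS Rsh)} {L : SheafOfModules.{w} (ringS Rsh')}
    (η : M ⟶ (SheafOfModules.pushforward.{w} ψ).obj L) (hη : IsUniv (SheafOfModules.pushforward.{w} ψ) η)
    {I : Type w} (a : M ⟶ SheafOfModules.free I) (b : SheafOfModules.free I ⟶ M) (hab : a ≫ b = 𝟙 M)
    {Y : D} (hY : A'.aff Y) : Module.Projective (Rsh'.obj.obj (op Y)) ((toPM L).obj (op Y)) := by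
  obtain ⟨a', ha'⟩ := (hη _).2 (a ≫ freeUniv ψ I)
  obtain ⟨b', hb'⟩ := (isUniv_freeUniv ψ I _).2 (b ≫ η)
  dsimp only at ha' hb'
  have h : a' ≫ b' = 𝟙 L := by
    refine (hη L).1 ?_
    dsimp only
    rw [Functor.map_comp, ← Category.assoc, ha', Category.assoc, hb', ← Category.assoc, hab, Category.id_comp,
      CategoryTheory.Functor.map_id, Category.comp_id]
  haveI := projective_free (Rsh := Rsh') (A := A') I hY
  exact projective_of_retract a' b' h Y

end Pull

end Groth.Agent.H13LocProj
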